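import Cfsg.Agent.LocalEven.StronglyClosedAbelian
import Cfsg.Agent.Solvable.Fitting

/-!
# An abelian strongly closed subgroup and the largest normal p-subgroup

`chain_le_pCore`: the elements of a normal subgroup `C` stabilising `1 ≤ A ⊓ O_p ≤ O_p` form a
`p`-group, hence lie in `O_p`, as soon as `C` meets the centraliser of `O_p` inside `O_p`.
-/

set_option autoImplicit false
set_option linter.style.haveILetI false

namespace CfsgLib.ThreePrime

open Subgroup

variable {G : Type*} [Group G] [Finite G] {p : ℕ} [Fact p.Prime] {S : Sylow p G} {A : Subgroup G}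

omit [Finite G] [Fact p.Prime] in
theorem inf_pCore_normal (hsc : Cfsg.IsStronglyClosed A (S : Subgroup G)) :
    (A ⊓ Cfsg.pCore p G).Normal := by
  haveI : (Cfsg.pCore p G).Normal := CfsgLib.Solvable.pCore_normal p
  refine ⟨fun a ha g => ?_⟩
  have h : g * a * g⁻¹ ∈ Cfsg.pCore p G := Subgroup.Normal.conj_mem inferInstance a ha.2 g
  exact ⟨hsc.2 a ha.1 g (CfsgLib.Solvable.pCore_le_sylow S h), h⟩

omit [Finite G] [Fact p.Prime] in
/-- An element of an abelian strongly closed subgroup stabilises `1 ≤ A ⊓ O_p ≤ O_p`. -/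
theorem mem_chainStab_pCore (hA : IsMulCommutative ↥A)
    (hsc : Cfsg.IsStronglyClosed A (S : Subgroup G)) {a : G} (ha : a ∈ A) :
    a ∈ CfsgLib.LocalEven.chainStab (Cfsg.pCore p G) (A ⊓ Cfsg.pCore p G) := by
  haveI : (Cfsg.pCore p G).Normal := CfsgLib.Solvable.pCore_normal p
  refine CfsgLib.LocalEven.mem_chainStab.2
    ⟨by rw [normalizer_eq_top]; exact mem_top a, fun b hb => ?_, fun d hd => ⟨?_, ?_⟩⟩
  · rw [mul_inv_eq_iff_eq_mul]
    exact congrArg Subtype.val (hA.is_comm.comm ⟨a, ha⟩ ⟨b, hb.1⟩)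
  · have h := mul_mem ha (CfsgLib.Closed.conj_mem_of_mem hsc (A.inv_mem ha)
      (CfsgLib.Solvable.pCore_le_sylow S hd))
    simpa [mul_assoc] using h
  · exact mul_mem (Subgroup.Normal.conj_mem inferInstance d hd a)
      (Subgroup.inv_mem _ hd)

/-- The part of a normal subgroup `C` in the chain stabiliser lies in `O_p`, if `C` meets the
centraliser of `O_p` inside `O_p`. -/
theorem chain_le_pCore (hsc : Cfsg.IsStronglyClosed A (S : Subgroup G)) (C : Subgroup G) [C.Normal]
    (hC : C ⊓ centralizer (Cfsg.pCore p G : Set G) ≤ Cfsg.pCore p G) :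
    CfsgLib.LocalEven.chainStab (Cfsg.pCore p G) (A ⊓ Cfsg.pCore p G) ⊓ C ≤ Cfsg.pCore p G := by
  haveI hQn : (Cfsg.pCore p G).Normal := CfsgLib.Solvable.pCore_normal p
  have hA₀n := inf_pCore_normal hsc
  set Q := Cfsg.pCore p G with hQdef
  set K := CfsgLib.LocalEven.chainStab Q (A ⊓ Q) ⊓ C with hKdef
  haveI : K.Normal := ⟨fun k hk g => ⟨CfsgLib.LocalEven.conj_mem_chainStab
      (fun n _ a ha => hA₀n.conj_mem a ha n) hk.1 (by rw [normalizer_eq_top]; exact mem_top g),
    Subgroup.Normal.conj_mem inferInstance k hk.2 g⟩⟩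
  refine CfsgLib.Solvable.le_pCore (IsPGroup.iff_orderOf.2 fun k => ?_)
  obtain ⟨e, m, hm, he⟩ := Nat.exists_eq_pow_mul_and_not_dvd
    (orderOf_pos (k : G)).ne' p (Fact.out : p.Prime).ne_one
  have hQp : IsPGroup p Q := CfsgLib.Solvable.isPGroup_pCore p
  have hmem : (k : G) ^ p ^ e ∈ Q := hC ⟨pow_mem k.2.2 _,
    CfsgLib.LocalEven.mem_centralizer_of_chainStab hQp inf_le_right (pow_mem k.2.1 _) (by
      rw [orderOf_pow' _ (pow_ne_zero _ (Fact.out : p.Prime).ne_zero), he,
        Nat.gcd_mul_right_left, Nat.mul_div_cancel_left _ (pow_pos (Fact.out : p.Prime).pos e)]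
      exact ((Fact.out : p.Prime).coprime_iff_not_dvd.2 hm).symm)⟩
  obtain ⟨i, hi⟩ := hQp ⟨_, hmem⟩
  have hdvd : orderOf (k : G) ∣ p ^ (e + i) := orderOf_dvd_of_pow_eq_one (by
    rw [pow_add, pow_mul]; simpa using congrArg Subtype.val hi)
  obtain ⟨j, -, hj⟩ := (Nat.dvd_prime_pow Fact.out).1 hdvd
  exact ⟨j, by rw [← Subgroup.orderOf_coe, hj]⟩

/-- In a group with self-centralising `O_p` an abelian strongly closed subgroup lies in `O_p`. -/
theorem le_pCore_of_constrained (hA : IsMulCommutative ↥A)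
    (hsc : Cfsg.IsStronglyClosed A (S : Subgroup G))
    (hcon : centralizer (Cfsg.pCore p G : Set G) ≤ Cfsg.pCore p G) : A ≤ Cfsg.pCore p G := fun a ha =>
  chain_le_pCore hsc ⊤ (le_trans inf_le_right hcon) ⟨mem_chainStab_pCore hA hsc ha, mem_top a⟩

/-- In such a group it is a normal subgroup. -/
theorem normal_of_constrained (hA : IsMulCommutative ↥A)
    (hsc : Cfsg.IsStronglyClosed A (S : Subgroup G))
    (hcon : centralizer (Cfsg.pCore p G : Set G) ≤ Cfsg.pCore p G) : A.Normal := by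
  have h := inf_pCore_normal hsc
  rwa [inf_eq_left.2 (le_pCore_of_constrained hA hsc hcon)] at h

end CfsgLib.ThreePrime
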