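import Cfsg.Agent.ThreePrime.SzFacts

/-!
# The Sylow 2-subgroups of a Suzuki group and their normalisers

For a Sylow 2-subgroup `T`: it has exponent greater than two; an element commuting with all its
`N(T)`-conjugates has order at most two; `N(T)` is transitive on the involutions of `T`, and there
are at least three of them.
-/

set_option autoImplicit false
set_option linter.style.haveILetI false

namespace CfsgLib.ThreePrime

open Subgroup

variable {G : Type*} [Group G] [Finite G]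

/-- Transport to the model, sending a given Sylow 2-subgroup to the unipotent group. -/
theorem exists_equiv_sylow (h : Cfsg.Lie.IsoSuzuki G) (T : Sylow 2 G) :
    ∃ (F : Type) (_ : Field F) (_ : Fintype F) (m : ℕ) (hS : CfsgLib.Suzuki.SzField F m)
      (e : G ≃* Cfsg.Sz F m),
      ∀ x : G, x ∈ (T : Subgroup G) ↔ e x ∈ CfsgLib.Suzuki.uniSub hS := by
  haveI : Fact (Nat.Prime 2) := ⟨Nat.prime_two⟩
  obtain ⟨F, _, _, m, hm, hF, ⟨e₀⟩⟩ := h
  have hS : CfsgLib.Suzuki.SzField F m := ⟨hm, hF⟩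
  let e : G ≃* Cfsg.Sz F m := e₀.trans (CfsgLib.Suzuki.lieSzEquiv hS).symm
  have hU : IsPGroup 2 (CfsgLib.Suzuki.uniSub hS) := IsPGroup.of_card (n := 2 * (2 * m + 1)) (by
    rw [CfsgLib.Suzuki.card_uniSub, hS.card_eq, ← pow_mul, mul_comm])
  let U : Sylow 2 (Cfsg.Sz F m) := hU.toSylow (CfsgLib.Suzuki.odd_index_uniSub hS)
  let T' : Sylow 2 (Cfsg.Sz F m) := T.comapOfInjective e.symm.toMonoidHom e.symm.injective
    fun x _ => ⟨e x, e.symm_apply_apply x⟩
  obtain ⟨g, hg⟩ := MulAction.exists_smul_eq (Cfsg.Sz F m) T' U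
  refine ⟨F, _, _, m, hS, e.trans (MulAut.conj g), fun x => ?_⟩
  have h1 : g * e x * g⁻¹ ∈ (U : Subgroup (Cfsg.Sz F m)) ↔ x ∈ (T : Subgroup G) := by
    rw [← hg, Sylow.coe_subgroup_smul, CfsgLib.Solvable.mem_conj_smul]
    show e.symm (g⁻¹ * (g * e x * g⁻¹) * g) ∈ (T : Subgroup G) ↔ _
    rw [show g⁻¹ * (g * e x * g⁻¹) * g = e x by group, e.symm_apply_apply]
  exact h1.symm

/-- A Sylow 2-subgroup is not of exponent two. -/
theorem exists_sq_ne_one (h : Cfsg.Lie.IsoSuzuki G) (T : Sylow 2 G) :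
    ∃ t ∈ (T : Subgroup G), t * t ≠ 1 := by
  obtain ⟨F, _, _, m, hS, e, he⟩ := exists_equiv_sylow h T
  refine ⟨e.symm (CfsgLib.Suzuki.uniEl hS 1 0), (he _).2 (by
    rw [e.apply_symm_apply]; exact CfsgLib.Suzuki.uniEl_mem hS 1 0), fun h1 => ?_⟩
  have h2 := congrArg e h1
  rw [map_mul, e.apply_symm_apply, map_one, CfsgLib.Suzuki.uniEl_sq,
    ← CfsgLib.Suzuki.uniEl_zero hS, CfsgLib.Suzuki.uniEl_eq_iff, mul_one] at h2
  rw [CfsgLib.Suzuki.θ_def, one_pow] at h2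
  exact one_ne_zero h2.2

/-- An element commuting with all its `N(T)`-conjugates has order at most two. -/
theorem mul_self_eq_one_of_commute (h : Cfsg.Lie.IsoSuzuki G) (T : Sylow 2 G) {l : G}
    (hl : l ∈ (T : Subgroup G))
    (hcomm : ∀ n ∈ normalizer ((T : Subgroup G) : Set G), Commute l (n * l * n⁻¹)) :
    l * l = 1 := by
  obtain ⟨F, _, _, m, hS, e, he⟩ := exists_equiv_sylow h T
  have := hS.charP
  obtain ⟨a, b, hab⟩ := (he l).1 hl
  have hconj : ∀ μ : Fˣ, Commute (CfsgLib.Suzuki.uniEl hS a b)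
      (CfsgLib.Suzuki.uniEl hS (μ * a) (μ * CfsgLib.Suzuki.θ m (μ : F) * b)) := by
    intro μ
    have hn : e.symm (CfsgLib.Suzuki.torSz hS μ) ∈ normalizer ((T : Subgroup G) : Set G) := by
      rw [mem_normalizer_iff]
      intro x
      rw [he, he, map_mul, map_mul, map_inv, e.apply_symm_apply]
      constructor
      · rintro ⟨c, d, hx⟩
        rw [hx, CfsgLib.Suzuki.torSz_conj_uniEl]
        exact CfsgLib.Suzuki.uniEl_mem hS _ _
      · rintro ⟨c, d, hx⟩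
        have : e x = CfsgLib.Suzuki.torSz hS μ⁻¹ * CfsgLib.Suzuki.uniEl hS c d *
            (CfsgLib.Suzuki.torSz hS μ⁻¹)⁻¹ := by rw [← hx, map_inv]; group
        rw [this, CfsgLib.Suzuki.torSz_conj_uniEl]
        exact CfsgLib.Suzuki.uniEl_mem hS _ _
    have h1 := (hcomm _ hn).map e.toMonoidHom
    simp only [MulEquiv.coe_toMonoidHom, map_mul, map_inv, e.apply_symm_apply, hab,
      CfsgLib.Suzuki.torSz_conj_uniEl] at h1
    exact h1
  have ha : a = 0 := by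
    by_contra ha
    obtain ⟨c, hc0, hc⟩ := CfsgLib.Suzuki.exists_θ_ne hS
    have h1 := hconj (Units.mk0 c hc0)
    simp only [Commute, SemiconjBy, Units.val_mk0, CfsgLib.Suzuki.uniEl_mul,
      CfsgLib.Suzuki.uniEl_eq_iff] at h1
    have h2 := h1.2
    rw [CfsgLib.Suzuki.θ_mul] at h2
    have h3 : CfsgLib.Suzuki.θ m a * a ≠ 0 := by
      rw [CfsgLib.Suzuki.θ_def]; exact mul_ne_zero (pow_ne_zero _ ha) ha
    refine hc (mul_right_cancel₀ h3 ?_)
    linear_combination -h2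
  refine e.injective ?_
  rw [map_mul, map_one, hab, ha, CfsgLib.Suzuki.uniEl_sq, ← CfsgLib.Suzuki.uniEl_zero hS,
    CfsgLib.Suzuki.uniEl_eq_iff]
  exact ⟨rfl, mul_zero _⟩

/-- `N(T)` is transitive on the involutions of `T`. -/
theorem exists_conj_of_involutions (h : Cfsg.Lie.IsoSuzuki G) (T : Sylow 2 G) {u v : G}
    (hu : u ∈ (T : Subgroup G)) (hv : v ∈ (T : Subgroup G)) (hu2 : u * u = 1) (hv2 : v * v = 1)
    (hu1 : u ≠ 1) (hv1 : v ≠ 1) :
    ∃ n ∈ normalizer ((T : Subgroup G) : Set G), n * u * n⁻¹ = v := by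
  obtain ⟨F, _, _, m, hS, e, he⟩ := exists_equiv_sylow h T
  have := hS.charP
  have hcoord : ∀ w : G, w ∈ (T : Subgroup G) → w * w = 1 → w ≠ 1 →
      ∃ b : F, b ≠ 0 ∧ e w = CfsgLib.Suzuki.uniEl hS 0 b := by
    intro w hw hw2 hw1
    obtain ⟨a, b, hab⟩ := (he w).1 hw
    have h2 := congrArg e hw2
    rw [map_mul, map_one, hab, CfsgLib.Suzuki.uniEl_sq, ← CfsgLib.Suzuki.uniEl_zero hS,
      CfsgLib.Suzuki.uniEl_eq_iff] at h2
    have ha : a = 0 := by
      rcases mul_eq_zero.1 h2.2 with h | h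
      · exact (pow_eq_zero_iff (pow_ne_zero _ two_ne_zero)).1 h
      · exact h
    subst ha
    refine ⟨b, fun hb => hw1 (e.injective ?_), hab⟩
    rw [map_one, hab, hb, CfsgLib.Suzuki.uniEl_zero]
  obtain ⟨b, hb, heu⟩ := hcoord u hu hu2 hu1
  obtain ⟨d, hd, hev⟩ := hcoord v hv hv2 hv1
  obtain ⟨μ, hμ⟩ := CfsgLib.Suzuki.self_mul_θ_surjective hS (d / b)
  have hμ0 : μ ≠ 0 := by
    rintro rfl
    simp only [zero_mul] at hμ
    exact div_ne_zero hd hb hμ.symm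
  refine ⟨e.symm (CfsgLib.Suzuki.torSz hS (Units.mk0 μ hμ0)), ?_, ?_⟩
  · rw [mem_normalizer_iff]
    intro x
    rw [he, he, map_mul, map_mul, map_inv, e.apply_symm_apply]
    constructor
    · rintro ⟨c, d', hx⟩
      rw [hx, CfsgLib.Suzuki.torSz_conj_uniEl]
      exact CfsgLib.Suzuki.uniEl_mem hS _ _
    · rintro ⟨c, d', hx⟩
      have : e x = CfsgLib.Suzuki.torSz hS (Units.mk0 μ hμ0)⁻¹ * CfsgLib.Suzuki.uniEl hS c d' *
          (CfsgLib.Suzuki.torSz hS (Units.mk0 μ hμ0)⁻¹)⁻¹ := by rw [← hx, map_inv]; group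
      rw [this, CfsgLib.Suzuki.torSz_conj_uniEl]
      exact CfsgLib.Suzuki.uniEl_mem hS _ _
  · refine e.injective ?_
    rw [map_mul, map_mul, map_inv, e.apply_symm_apply, heu, hev,
      CfsgLib.Suzuki.torSz_conj_uniEl, CfsgLib.Suzuki.uniEl_eq_iff]
    refine ⟨mul_zero _, ?_⟩
    simp only [Units.val_mk0] at hμ ⊢
    rw [hμ, div_mul_cancel₀ d hb]

/-- Two involutions of `T` commute. -/
theorem commute_of_involutions (h : Cfsg.Lie.IsoSuzuki G) (T : Sylow 2 G) {u v : G}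
    (hu : u ∈ (T : Subgroup G)) (hv : v ∈ (T : Subgroup G)) (hu2 : u * u = 1) (hv2 : v * v = 1) :
    Commute u v := by
  obtain ⟨F, _, _, m, hS, e, he⟩ := exists_equiv_sylow h T
  have := hS.charP
  have hcoord : ∀ w : G, w ∈ (T : Subgroup G) → w * w = 1 →
      ∃ b : F, e w = CfsgLib.Suzuki.uniEl hS 0 b := by
    intro w hw hw2
    obtain ⟨a, b, hab⟩ := (he w).1 hw
    have h2 := congrArg e hw2
    rw [map_mul, map_one, hab, CfsgLib.Suzuki.uniEl_sq, ← CfsgLib.Suzuki.uniEl_zero hS,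
      CfsgLib.Suzuki.uniEl_eq_iff] at h2
    have ha : a = 0 := by
      rcases mul_eq_zero.1 h2.2 with h | h
      · exact (pow_eq_zero_iff (pow_ne_zero _ two_ne_zero)).1 h
      · exact h
    subst ha
    exact ⟨b, hab⟩
  obtain ⟨b, hb⟩ := hcoord u hu hu2
  obtain ⟨d, hd⟩ := hcoord v hv hv2
  refine e.injective ?_
  rw [map_mul, map_mul, hb, hd, CfsgLib.Suzuki.uniEl_mul, CfsgLib.Suzuki.uniEl_mul,
    CfsgLib.Suzuki.uniEl_eq_iff]
  simp [add_comm]

/-- There are at least three involutions in `T`. -/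
theorem exists_third_involution (h : Cfsg.Lie.IsoSuzuki G) (T : Sylow 2 G) (z : G) :
    ∃ w ∈ (T : Subgroup G), w * w = 1 ∧ w ≠ 1 ∧ w ≠ z := by
  obtain ⟨F, _, _, m, hS, e, he⟩ := exists_equiv_sylow h T
  have := hS.charP
  have key : ∀ b : F, b ≠ 0 → e.symm (CfsgLib.Suzuki.uniEl hS 0 b) ∈ (T : Subgroup G) ∧
      e.symm (CfsgLib.Suzuki.uniEl hS 0 b) * e.symm (CfsgLib.Suzuki.uniEl hS 0 b) = 1 ∧
      e.symm (CfsgLib.Suzuki.uniEl hS 0 b) ≠ 1 := by
    intro b hb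
    refine ⟨(he _).2 (by rw [e.apply_symm_apply]; exact CfsgLib.Suzuki.uniEl_mem hS 0 b),
      e.injective ?_, fun h1 => hb ?_⟩
    · rw [map_mul, map_one, e.apply_symm_apply, CfsgLib.Suzuki.uniEl_sq,
        ← CfsgLib.Suzuki.uniEl_zero hS, CfsgLib.Suzuki.uniEl_eq_iff]
      exact ⟨rfl, mul_zero _⟩
    · have h2 := congrArg e h1
      rw [e.apply_symm_apply, map_one, ← CfsgLib.Suzuki.uniEl_zero hS,
        CfsgLib.Suzuki.uniEl_eq_iff] at h2
      exact h2.2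
  obtain ⟨c, hc0, hc⟩ := CfsgLib.Suzuki.exists_θ_ne hS
  have hc1 : c ≠ 1 := fun e' => hc (by rw [e', CfsgLib.Suzuki.θ_def, one_pow])
  obtain ⟨h1, h2, h3⟩ := key c hc0
  obtain ⟨g1, g2, g3⟩ := key 1 one_ne_zero
  by_cases hz : e.symm (CfsgLib.Suzuki.uniEl hS 0 c) = z
  · refine ⟨_, g1, g2, g3, fun e' => hc1 ?_⟩
    rw [← hz] at e'
    exact (((CfsgLib.Suzuki.uniEl_eq_iff hS).1 (e.symm.injective e')).2).symm
  · exact ⟨_, h1, h2, h3, hz⟩

end CfsgLib.ThreePrime
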