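import Cfsg.Agent.ThreePrime.Constrained
import Cfsg.Agent.ThreePrime.SzSylow
import Cfsg.Agent.Components.LocalBalance
import Cfsg.Agent.Components.FStar
import Cfsg.Agent.Balance.Core
import Cfsg.Agent.S0542

/-!
# The structure lemma for an abelian strongly closed 2-subgroup, all components being Suzuki

In a finite group `H` with `O(H) = 1` whose components `L` all have `L / Z(L)` a Suzuki group, an
abelian strongly closed 2-subgroup `A` normalises every component, lies in `O₂(H) E(H)`, gives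
`H = E(H) N(A)`, and when it moves a component `L` it covers every involution of `L / Z(L)` lying
in the Sylow subgroup.
-/

set_option autoImplicit false
set_option linter.style.haveILetI false

namespace CfsgLib.ThreePrime

open Subgroup
open scoped commutatorElement

variable {H : Type*} [Group H] [Finite H]

/-- All components are Suzuki groups modulo their centres. -/
def SzComponents (H : Type*) [Group H] : Prop :=
  ∀ L : Subgroup H, Cfsg.IsComponent L → Cfsg.Lie.IsoSuzuki (↥L ⧸ Subgroup.center ↥L)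

omit [Finite H] in
theorem commute_of_ne {K L : Subgroup H} (hK : Cfsg.IsComponent K) (hL : Cfsg.IsComponent L)
    (hne : K ≠ L) {x y : H} (hx : x ∈ K) (hy : y ∈ L) : Commute x y := by
  have h := Subgroup.commutator_eq_bot_iff_le_centralizer.1
    (CfsgLib.Components.IsComponent.commutator_eq_bot_of_ne hK hL hne)
  exact (Subgroup.mem_centralizer_iff.1 (h hx) y hy).symm

/-- The image of `S ⊓ L` is a Sylow subgroup of `L / Z(L)`. -/
theorem exists_quot_sylow (S : Sylow 2 H) {L : Subgroup H} (hL : Cfsg.IsComponent L) :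
    ∃ T : Sylow 2 (↥L ⧸ center ↥L), ∀ x : ↥L ⧸ center ↥L, x ∈ (T : Subgroup (↥L ⧸ center ↥L)) ↔
      ∃ s : ↥L, (s : H) ∈ (S : Subgroup H) ∧ (s : ↥L ⧸ center ↥L) = x := by
  haveI : Fact (Nat.Prime 2) := ⟨Nat.prime_two⟩
  obtain ⟨Q, hQ⟩ := Cfsg.Agent.S0542.result 2 L hL.1 S
  refine ⟨Q.mapSurjective (f := QuotientGroup.mk' (center ↥L)) (QuotientGroup.mk'_surjective _),
    fun x => ?_⟩
  rw [Sylow.coe_mapSurjective, Subgroup.mem_map, hQ]
  rfl

/-- An element of `S ⊓ L` whose square is not central in `L`. -/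
theorem exists_sq_not_central (hSz : SzComponents H) (S : Sylow 2 H) {L : Subgroup H}
    (hL : Cfsg.IsComponent L) :
    ∃ s : ↥L, (s : H) ∈ (S : Subgroup H) ∧ s * s ∉ center ↥L := by
  obtain ⟨T, hT⟩ := exists_quot_sylow S hL
  obtain ⟨t, ht, ht2⟩ := exists_sq_ne_one (hSz L hL) T
  obtain ⟨s, hs, rfl⟩ := (hT t).1 ht
  refine ⟨s, hs, fun h => ht2 ?_⟩
  rw [← QuotientGroup.mk_mul]
  exact (QuotientGroup.eq_one_iff _).2 h

variable {S : Sylow 2 H} {A : Subgroup H}

/-- An abelian strongly closed 2-subgroup normalises every component. -/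
theorem map_conj_component_eq (hSz : SzComponents H) (hA : IsMulCommutative ↥A)
    (hsc : Cfsg.IsStronglyClosed A (S : Subgroup H)) {a : H} (ha : a ∈ A) {L : Subgroup H}
    (hL : Cfsg.IsComponent L) : L.map (MulAut.conj a).toMonoidHom = L := by
  by_contra hne
  obtain ⟨s, hs, hs2⟩ := exists_sq_not_central hSz S hL
  apply hs2
  set L' := L.map (MulAut.conj a).toMonoidHom with hL'def
  have hL' : Cfsg.IsComponent L' := CfsgLib.Components.IsComponent.conj hL a
  set L'' := L'.map (MulAut.conj a).toMonoidHom with hL''def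
  have hL'' : Cfsg.IsComponent L'' := CfsgLib.Components.IsComponent.conj hL' a
  obtain ⟨u, hu⟩ : ∃ u, u = a * (s : H) * a⁻¹ := ⟨_, rfl⟩
  obtain ⟨w, hw⟩ : ∃ w, w = a * u * a⁻¹ := ⟨_, rfl⟩
  have huL : u ∈ L' := hu ▸ mem_map_of_mem _ s.2
  have hwL : w ∈ L'' := hw ▸ mem_map_of_mem _ huL
  have hcA : (s : H) * u⁻¹ ∈ A := by
    have h := mul_mem (CfsgLib.Closed.conj_mem_of_mem hsc ha hs) (inv_mem ha)
    rw [hu]
    simpa [mul_assoc] using h
  have hcomm : u * w⁻¹ = (s : H) * u⁻¹ := by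
    have h : a * ((s : H) * u⁻¹) = (s : H) * u⁻¹ * a :=
      congrArg Subtype.val (hA.is_comm.comm ⟨a, ha⟩ ⟨_, hcA⟩)
    calc u * w⁻¹ = a * ((s : H) * u⁻¹) * a⁻¹ := by rw [hw, hu]; group
      _ = (s : H) * u⁻¹ := by rw [h, mul_inv_cancel_right]
  rw [mem_center_iff]
  intro x
  apply Subtype.ext
  show (x : H) * ((s : H) * s) = (s : H) * s * x
  by_cases h2 : L'' = L
  · have hwL' : Commute w u := commute_of_ne hL'' hL' (fun h => hne (h.symm.trans h2)) hwL huL
    have huu : u * u = (s : H) * w := by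
      calc u * u = u * w⁻¹ * (w * u) := by group
        _ = (s : H) * u⁻¹ * (u * w) := by rw [hcomm, hwL'.eq]
        _ = _ := by group
    have hmem : u * u ∈ L := by rw [huu]; exact mul_mem s.2 (h2 ▸ hwL)
    have h3 := commute_of_ne hL' hL hne
      (mem_map_of_mem (MulAut.conj a).toMonoidHom x.2) hmem
    have h4 : a * ((x : H) * ((s : H) * s)) * a⁻¹ = a * ((s : H) * s * x) * a⁻¹ := by
      have h5 : a * (x : H) * a⁻¹ * (u * u) = u * u * (a * x * a⁻¹) := h3.eq
      rw [hu] at h5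
      calc a * ((x : H) * ((s : H) * s)) * a⁻¹
          = a * (x : H) * a⁻¹ * (a * (s : H) * a⁻¹ * (a * s * a⁻¹)) := by group
        _ = _ := by rw [h5]; group
    exact mul_left_cancel (mul_right_cancel h4)
  · have hxu : Commute (x : H) u := commute_of_ne hL hL' (Ne.symm hne) x.2 huL
    have hxw : Commute (x : H) w := commute_of_ne hL hL'' (Ne.symm h2) x.2 hwL
    have hs_eq : (s : H) = u * w⁻¹ * u := by rw [hcomm]; group
    have hxs : Commute (x : H) s := hs_eq ▸ ((hxu.mul_right hxw.inv_right).mul_right hxu)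
    exact (hxs.mul_right hxs).eq

theorem le_normalizer_component (hSz : SzComponents H) (hA : IsMulCommutative ↥A)
    (hsc : Cfsg.IsStronglyClosed A (S : Subgroup H)) {L : Subgroup H} (hL : Cfsg.IsComponent L) :
    A ≤ normalizer (L : Set H) := fun _ ha =>
  mem_normalizer_iff_map_conj_eq.2 (map_conj_component_eq hSz hA hsc ha hL)

/-- An element of the Sylow subgroup normalising a component acts as an element of it. -/
theorem exists_inner (hSz : SzComponents H) (S : Sylow 2 H) {L : Subgroup H}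
    (hL : Cfsg.IsComponent L) {g : H} (hg : g ∈ (S : Subgroup H))
    (hgL : g ∈ normalizer (L : Set H)) :
    ∃ l ∈ L, l ∈ (S : Subgroup H) ∧ g * l⁻¹ ∈ centralizer (L : Set H) := by
  haveI : Fact (Nat.Prime 2) := ⟨Nat.prime_two⟩
  obtain ⟨F, _, _, m, hm, hF, ⟨e₀⟩⟩ := id (hSz L hL)
  have hS : CfsgLib.Suzuki.SzField F m := ⟨hm, hF⟩
  have hodd : Odd (Nat.card (Cfsg.Out (↥L ⧸ center ↥L))) := by
    rw [CfsgLib.AutSuzuki.card_out_congr (e₀.trans (CfsgLib.Suzuki.lieSzEquiv hS).symm),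
      CfsgLib.AutSuzuki.card_out_sz hS]
    exact ⟨m, rfl⟩
  set N := normalizer (L : Set H) with hN
  set φ := CfsgLib.Components.compAut L N le_rfl with hφ
  obtain ⟨k, hk⟩ := S.isPGroup' ⟨g, hg⟩
  have hgk : g ^ 2 ^ k = 1 := by simpa using congrArg Subtype.val hk
  have hσk : φ ⟨g, hgL⟩ ^ 2 ^ k = 1 := by
    rw [← map_pow, show (⟨g, hgL⟩ : N) ^ 2 ^ k = 1 from Subtype.ext (by simpa using hgk), map_one]
  have hinn : φ ⟨g, hgL⟩ ∈ Cfsg.Inn (↥L ⧸ center ↥L) := by
    rw [← QuotientGroup.eq_one_iff]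
    refine orderOf_eq_one_iff.1 (Nat.eq_one_of_dvd_coprimes
      ((Nat.coprime_two_left.2 hodd).pow_left k) ?_ (orderOf_dvd_natCard _))
    refine orderOf_dvd_of_pow_eq_one ?_
    show (QuotientGroup.mk' _ (φ ⟨g, hgL⟩)) ^ 2 ^ k = 1
    rw [← map_pow, hσk, map_one]
  obtain ⟨lb, hlb⟩ : ∃ lb, MulAut.conj lb = φ ⟨g, hgL⟩ := hinn
  obtain ⟨T, hT⟩ := exists_quot_sylow S hL
  have hZ : center (↥L ⧸ center ↥L) = ⊥ := by
    haveI : IsSimpleGroup (↥L ⧸ center ↥L) := hL.2.2
    rcases (inferInstance : (center (↥L ⧸ center ↥L)).Normal).eq_bot_or_eq_top with e | e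
    · exact e
    · exfalso
      refine CfsgLib.Components.IsQuasisimple.center_ne_top hL.2 (eq_top_iff.2 fun x _ => ?_)
      have hcomm : ∀ a b : ↥L ⧸ center ↥L, a * b = b * a := fun a b =>
        mem_center_iff.1 (e ▸ mem_top b) a
      have hperf := CfsgLib.Components.IsQuasisimple.perfect hL.2
      have hle : ⁅(⊤ : Subgroup ↥L), (⊤ : Subgroup ↥L)⁆ ≤ center ↥L := by
        rw [commutator_le]
        intro a _ b _
        rw [← QuotientGroup.eq_one_iff]
        show QuotientGroup.mk' _ ⁅a, b⁆ = 1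
        rw [map_commutatorElement, commutatorElement_eq_one_iff_commute]
        exact hcomm _ _
      exact hle (hperf.ge (mem_top x))
  have hlbT : lb ∈ (T : Subgroup (↥L ⧸ center ↥L)) := by
    have hnorm : lb ∈ normalizer ((T : Subgroup (↥L ⧸ center ↥L)) : Set _) := by
      refine mem_normalizer_fintype fun x hx => ?_
      obtain ⟨s, hs, rfl⟩ := (hT x).1 hx
      have h1 : lb * (s : ↥L ⧸ center ↥L) * lb⁻¹ = φ ⟨g, hgL⟩ (s : ↥L ⧸ center ↥L) := by
        rw [← hlb]; rfl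
      rw [SetLike.mem_coe, h1, hφ, CfsgLib.Components.compAut_apply]
      exact (hT _).2 ⟨_, mul_mem (mul_mem hg hs) (inv_mem hg), rfl⟩
    have hp : IsPGroup 2 (zpowers lb) := by
      have hone : lb ^ 2 ^ k = 1 := conjInj hZ (by rw [map_pow, hlb, hσk, map_one])
      obtain ⟨j, -, hj⟩ := (Nat.dvd_prime_pow Nat.prime_two).1 (orderOf_dvd_of_pow_eq_one hone)
      exact IsPGroup.of_card (n := j) (by rw [Nat.card_zpowers, hj])
    have h2 := T.is_maximal' (hp.to_sup_of_normal_right' T.isPGroup' (zpowers_le.2 hnorm))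
      le_sup_right
    exact h2.le (mem_sup_left (mem_zpowers lb))
  obtain ⟨l, hl, rfl⟩ := (hT lb).1 hlbT
  refine ⟨l, l.2, hl, ?_⟩
  have hlN : (l : H) ∈ N := le_normalizer l.2
  have hmem : (⟨g, hgL⟩ : N) * ⟨(l : H), hlN⟩⁻¹ ∈ φ.ker := by
    rw [MonoidHom.mem_ker, map_mul, map_inv, mul_inv_eq_one, ← hlb]
    refine MulEquiv.ext fun x => ?_
    obtain ⟨x, rfl⟩ := QuotientGroup.mk_surjective x
    rw [hφ, CfsgLib.Components.compAut_apply, MulAut.conj_apply]
    rfl
  exact CfsgLib.Components.ker_compAut_le le_rfl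
    (CfsgLib.Components.IsComponent.commutator_eq_self hL) hmem

/-- `A ≤ O₂(H) E(H)`. -/
theorem le_pCore_sup_layer (hSz : SzComponents H) (hO : Cfsg.pPrimeCore 2 H = ⊥)
    (hA : IsMulCommutative ↥A) (hsc : Cfsg.IsStronglyClosed A (S : Subgroup H)) :
    A ≤ Cfsg.pCore 2 H ⊔ Cfsg.layer H := by
  haveI : Fact (Nat.Prime 2) := ⟨Nat.prime_two⟩
  intro a ha
  have step : ∀ s : Set (Subgroup H), s.Finite → (∀ L ∈ s, Cfsg.IsComponent L) →
      ∃ e ∈ Cfsg.layer H, e ∈ (S : Subgroup H) ∧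
        (∀ L : Subgroup H, Cfsg.IsComponent L → a * e⁻¹ ∈ normalizer (L : Set H)) ∧
        ∀ L ∈ s, a * e⁻¹ ∈ centralizer (L : Set H) := by
    intro s hs
    induction s, hs using Set.Finite.induction_on with
    | empty =>
      intro _
      exact ⟨1, one_mem _, one_mem _,
        fun L hL => by simpa using le_normalizer_component hSz hA hsc hL ha,
        fun L hL => absurd hL (Set.notMem_empty L)⟩
    | @insert L s hLs _ ih =>
      intro hcomp
      obtain ⟨e, heE, heS, heN, heC⟩ := ih fun K hK => hcomp K (Set.mem_insert_of_mem _ hK)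
      have hL := hcomp L (Set.mem_insert _ _)
      obtain ⟨l, hlL, hlS, hlC⟩ := exists_inner hSz S hL
        (mul_mem (hsc.1 ha) (inv_mem heS)) (heN L hL)
      have heq : a * (l * e)⁻¹ = a * e⁻¹ * l⁻¹ := by group
      refine ⟨l * e, mul_mem (CfsgLib.Components.IsComponent.le_layer hL hlL) heE,
        mul_mem hlS heS, fun K hK => ?_, fun K hK => ?_⟩
      · rw [heq]
        refine mul_mem (heN K hK) (inv_mem ?_)
        by_cases h : L = K
        · exact le_normalizer (h ▸ hlL)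
        · exact centralizer_le_normalizer _
            (mem_centralizer_iff.2 fun k hk => (commute_of_ne hL hK h hlL hk).eq.symm)
      · rw [heq]
        rcases Set.mem_insert_iff.1 hK with rfl | hK'
        · exact hlC
        · refine mul_mem (heC K hK') (inv_mem ?_)
          have h : L ≠ K := fun h => hLs (h ▸ hK')
          exact mem_centralizer_iff.2 fun k hk =>
            (commute_of_ne hL (hcomp K hK) h hlL hk).eq.symm
  obtain ⟨e, heE, -, -, heC⟩ := step _ (Set.toFinite {L | Cfsg.IsComponent L}) fun L hL => hL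
  have hcent : a * e⁻¹ ∈ centralizer (Cfsg.layer H : Set H) := by
    have : Cfsg.layer H ≤ centralizer ({a * e⁻¹} : Set H) := sSup_le fun L hL x hx =>
      mem_centralizer_singleton_iff.2 (mem_centralizer_iff.1 (heC L hL) x hx)
    exact mem_centralizer_iff.2 fun x hx => mem_centralizer_singleton_iff.1 (this hx)
  haveI : (Cfsg.layer H).Normal := CfsgLib.Components.layer_normal
  haveI : (centralizer (Cfsg.layer H : Set H)).Normal := normal_centralizer
  have hFit := CfsgLib.Balance.fittingSubgroup_eq_pCore (p := 2) hO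
  have hC : centralizer (Cfsg.layer H : Set H) ⊓ centralizer (Cfsg.pCore 2 H : Set H) ≤
      Cfsg.pCore 2 H := by
    rintro x ⟨hx1, hx2⟩
    refine (CfsgLib.Components.centralizer_generalizedFitting_le.trans hFit.le) ?_
    have : Cfsg.generalizedFittingSubgroup H ≤ centralizer ({x} : Set H) := by
      refine sup_le (fun y hy => ?_) (fun y hy => ?_)
      · exact mem_centralizer_singleton_iff.2 (mem_centralizer_iff.1 hx1 y hy)
      · exact mem_centralizer_singleton_iff.2 (mem_centralizer_iff.1 hx2 y (hFit.le hy))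
    exact mem_centralizer_iff.2 fun y hy => mem_centralizer_singleton_iff.1 (this hy)
  have heQ : e ∈ CfsgLib.LocalEven.chainStab (Cfsg.pCore 2 H) (A ⊓ Cfsg.pCore 2 H) := by
    have hc := CfsgLib.Components.layer_le_centralizer_fittingSubgroup heE
    rw [hFit, mem_centralizer_iff] at hc
    haveI := CfsgLib.Solvable.pCore_normal (G := H) 2
    have hfix : ∀ d ∈ Cfsg.pCore 2 H, e * d * e⁻¹ = d := fun d hd => by
      rw [← hc d hd, mul_inv_cancel_right]
    exact CfsgLib.LocalEven.mem_chainStab.2 ⟨by rw [normalizer_eq_top]; exact mem_top e,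
      fun b hb => hfix b hb.2, fun d hd => by rw [hfix d hd, mul_inv_cancel]; exact one_mem _⟩
  have hmem : a * e⁻¹ ∈ Cfsg.pCore 2 H := chain_le_pCore hsc _ hC
    ⟨mul_mem (mem_chainStab_pCore hA hsc ha) (Subgroup.inv_mem _ heQ), hcent⟩
  have := mul_mem (mem_sup_left (T := Cfsg.layer H) hmem) (mem_sup_right (S := Cfsg.pCore 2 H) heE)
  rwa [inv_mul_cancel_right] at this

/-- `H = E(H) N_H(A)`. -/
theorem exists_layer_mul_normalizer (hSz : SzComponents H) (hO : Cfsg.pPrimeCore 2 H = ⊥)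
    (hA : IsMulCommutative ↥A) (hsc : Cfsg.IsStronglyClosed A (S : Subgroup H)) (h : H) :
    ∃ e ∈ Cfsg.layer H, ∃ n ∈ normalizer (A : Set H), h = e * n := by
  haveI : Fact (Nat.Prime 2) := ⟨Nat.prime_two⟩
  haveI : (Cfsg.layer H).Normal := CfsgLib.Components.layer_normal
  haveI : (Cfsg.pCore 2 H).Normal := CfsgLib.Solvable.pCore_normal 2
  have hK : (Cfsg.pCore 2 H ⊔ Cfsg.layer H).Normal := sup_normal _ _
  set K := Cfsg.pCore 2 H ⊔ Cfsg.layer H with hKdef
  have hAK : A ≤ K := le_pCore_sup_layer hSz hO hA hsc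
  have hSn : (S : Subgroup H) ≤ normalizer (A : Set H) := fun s hs =>
    mem_normalizer_fintype fun x hx => CfsgLib.Closed.conj_mem_of_mem hsc hx hs
  obtain ⟨Q, hQ⟩ := Cfsg.Agent.S0542.result 2 K hK.isSubnormal S
  obtain ⟨R, hR⟩ : ∃ R : Sylow 2 H, R = h • S := ⟨_, rfl⟩
  obtain ⟨Q', hQ'⟩ := Cfsg.Agent.S0542.result 2 K hK.isSubnormal R
  obtain ⟨k, hk⟩ := MulAction.exists_smul_eq K Q' Q
  have hn : (k : H) * h ∈ normalizer (A : Set H) := by
    refine mem_normalizer_fintype fun x hx => ?_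
    refine hsc.2 x hx _ ?_
    have h1 : (⟨h * x * h⁻¹, hK.conj_mem x (hAK hx) h⟩ : K) ∈ (Q' : Subgroup K) := by
      rw [hQ', mem_subgroupOf, hR, Sylow.coe_subgroup_smul, CfsgLib.Solvable.mem_conj_smul]
      simpa [mul_assoc] using hsc.1 hx
    have h2 : k * ⟨h * x * h⁻¹, hK.conj_mem x (hAK hx) h⟩ * k⁻¹ ∈ (Q : Subgroup K) := by
      rw [← hk, Sylow.coe_subgroup_smul, CfsgLib.Solvable.mem_conj_smul]
      simpa [mul_assoc] using h1
    rw [hQ, mem_subgroupOf] at h2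
    simpa [mul_assoc] using h2
  have hkK : (k : H)⁻¹ ∈ Cfsg.layer H ⊔ Cfsg.pCore 2 H := by
    rw [sup_comm]; exact inv_mem k.2
  obtain ⟨e, he, q, hq, heq⟩ := mem_sup_of_normal_left.1 hkK
  refine ⟨e, he, q * ((k : H) * h),
    mul_mem (hSn (CfsgLib.Solvable.pCore_le_sylow S hq)) hn, ?_⟩
  rw [← mul_assoc, heq, inv_mul_cancel_left]

/-- If `A` moves the component `L`, every element of `S ⊓ L` of order at most two modulo `Z(L)`
lies in `(A ⊓ L) Z(L)`. -/
theorem exists_mul_center_mem (hSz : SzComponents H) (hA : IsMulCommutative ↥A)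
    (hsc : Cfsg.IsStronglyClosed A (S : Subgroup H)) {a : H} (ha : a ∈ A) {L : Subgroup H}
    (hL : Cfsg.IsComponent L) (hmove : a ∉ centralizer (L : Set H)) (u : ↥L)
    (hu : (u : H) ∈ (S : Subgroup H)) (hu2 : u * u ∈ center ↥L) :
    ∃ v : ↥L, (v : H) ∈ A ∧ v⁻¹ * u ∈ center ↥L := by
  haveI : Fact (Nat.Prime 2) := ⟨Nat.prime_two⟩
  obtain ⟨l, hlL, hlS, hlC⟩ :=
    exists_inner hSz S hL (hsc.1 ha) (le_normalizer_component hSz hA hsc hL ha)
  obtain ⟨T, hT⟩ := exists_quot_sylow S hL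
  set lb : ↥L ⧸ center ↥L := ((⟨l, hlL⟩ : ↥L) : ↥L ⧸ center ↥L) with hlb
  have hlbT : lb ∈ (T : Subgroup (↥L ⧸ center ↥L)) := (hT _).2 ⟨_, hlS, rfl⟩
  -- for `n` normalising `T`: a lift of `n l n⁻¹ l⁻¹` lies in `A`, and `l` commutes with it
  have key : ∀ n ∈ normalizer ((T : Subgroup (↥L ⧸ center ↥L)) : Set _),
      (∃ v : ↥L, (v : H) ∈ A ∧ (v : ↥L ⧸ center ↥L) = n * lb * n⁻¹ * lb⁻¹) ∧
        Commute lb (n * lb * n⁻¹) := by
    intro n hn
    obtain ⟨n₁, rfl⟩ := QuotientGroup.mk_surjective n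
    obtain ⟨s, hs, hse⟩ := (hT _).1 ((mem_normalizer_iff.1 hn lb).1 hlbT)
    obtain ⟨z, hz, hzeq⟩ : ∃ z ∈ center ↥L, s = n₁ * ⟨l, hlL⟩ * n₁⁻¹ * z := by
      refine ⟨(n₁ * ⟨l, hlL⟩ * n₁⁻¹)⁻¹ * s, ?_, by group⟩
      rw [← QuotientGroup.eq_one_iff, QuotientGroup.mk_mul, QuotientGroup.mk_inv,
        QuotientGroup.mk_mul, QuotientGroup.mk_mul, QuotientGroup.mk_inv, hse]
      exact inv_mul_cancel _
    have hc : ∀ x ∈ L, x * (a * l⁻¹) = a * l⁻¹ * x := fun x hx => mem_centralizer_iff.1 hlC x hx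
    -- `z` is a 2-element of the Sylow subgroup, so the conjugate of `a` lies in `S`
    have hconj : (n₁ : H) * a * (n₁ : H)⁻¹ = a * l⁻¹ * ((s : H) * (z : H)⁻¹) := by
      have h1 : (n₁ : H) * (a * l⁻¹) = a * l⁻¹ * n₁ := hc _ n₁.2
      rw [hzeq]
      simp only [Subgroup.coe_mul, InvMemClass.coe_inv]
      calc (n₁ : H) * a * (n₁ : H)⁻¹ = (n₁ : H) * (a * l⁻¹) * l * (n₁ : H)⁻¹ := by group
        _ = _ := by rw [h1]; group
    have hzS : (z : H) ∈ (S : Subgroup H) := by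
      obtain ⟨Q, hQ⟩ := Cfsg.Agent.S0542.result 2 L hL.1 S
      have hs' : s ∈ (Q : Subgroup ↥L) := by rw [hQ, mem_subgroupOf]; exact hs
      have hl' : (⟨l, hlL⟩ : ↥L) ∈ (Q : Subgroup ↥L) := by rw [hQ, mem_subgroupOf]; exact hlS
      have hz2 : ∃ j : ℕ, z ^ 2 ^ j = 1 := by
        obtain ⟨i, hi⟩ := Q.isPGroup' ⟨s, hs'⟩
        obtain ⟨i', hi'⟩ := Q.isPGroup' ⟨_, hl'⟩
        refine ⟨i + i', ?_⟩
        have e1 : s ^ 2 ^ (i + i') = 1 := by
          rw [pow_add, pow_mul, show s ^ 2 ^ i = 1 by simpa using congrArg Subtype.val hi, one_pow]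
        have e2 : (n₁ * ⟨l, hlL⟩ * n₁⁻¹) ^ 2 ^ (i + i') = 1 := by
          rw [conj_pow, pow_add, mul_comm, pow_mul,
            show (⟨l, hlL⟩ : ↥L) ^ 2 ^ i' = 1 by simpa using congrArg Subtype.val hi', one_pow,
            mul_one, mul_inv_cancel]
        rw [hzeq, (Commute.mul_pow ((mem_center_iff.1 hz _)) _), e2, one_mul] at e1
        exact e1
      obtain ⟨j, hj⟩ := hz2
      obtain ⟨i, -, hi⟩ := (Nat.dvd_prime_pow Nat.prime_two).1 (orderOf_dvd_of_pow_eq_one hj)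
      haveI : (zpowers z).Normal := ⟨fun x hx g => by
        have hxz : x ∈ center ↥L := zpowers_le.2 hz hx
        rw [mem_center_iff.1 hxz g, mul_inv_cancel_right]; exact hx⟩
      have hzQ := IsPGroup.le_sylow_of_normal (IsPGroup.of_card (n := i) (G := zpowers z)
        (p := 2) (by rw [Nat.card_zpowers, hi])) Q (mem_zpowers z)
      rwa [hQ, mem_subgroupOf] at hzQ
    have hmemA : (n₁ : H) * a * (n₁ : H)⁻¹ ∈ A := hsc.2 a ha _ (by
      rw [hconj]
      exact mul_mem (mul_mem (hsc.1 ha) (inv_mem hlS)) (mul_mem hs (inv_mem hzS)))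
    have h1 : (n₁ : H) * (a * l⁻¹) = a * l⁻¹ * n₁ := hc _ n₁.2
    have h6 : (n₁ : H) * a * (n₁ : H)⁻¹ = a * l⁻¹ * ((n₁ : H) * l * (n₁ : H)⁻¹) := by
      calc (n₁ : H) * a * (n₁ : H)⁻¹ = (n₁ : H) * (a * l⁻¹) * l * (n₁ : H)⁻¹ := by group
        _ = _ := by rw [h1]; group
    have h4 : a * ((n₁ : H) * a * (n₁ : H)⁻¹) = (n₁ : H) * a * (n₁ : H)⁻¹ * a :=
      congrArg Subtype.val (hA.is_comm.comm ⟨a, ha⟩ ⟨_, hmemA⟩)
    obtain ⟨x, hx⟩ : ∃ x, x = (n₁ : H) * l * (n₁ : H)⁻¹ := ⟨_, rfl⟩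
    have hxL : x ∈ L := hx ▸ mul_mem (mul_mem n₁.2 hlL) (inv_mem n₁.2)
    rw [h6, ← hx] at h4
    have h5 := hc x hxL
    have h7 := hc l hlL
    have hlx : l * x = x * l := by
      refine mul_left_cancel (a := a * l⁻¹ * (a * l⁻¹)) ?_
      calc a * l⁻¹ * (a * l⁻¹) * (l * x) = a * l⁻¹ * ((a * l⁻¹) * l * x) := by group
        _ = a * l⁻¹ * (l * (a * l⁻¹) * x) := by rw [h7]
        _ = a * (a * l⁻¹ * x) := by group
        _ = a * l⁻¹ * x * a := h4
        _ = a * l⁻¹ * (x * (a * l⁻¹)) * l := by group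
        _ = a * l⁻¹ * (a * l⁻¹ * x) * l := by rw [h5]
        _ = _ := by group
    constructor
    · refine ⟨n₁ * ⟨l, hlL⟩ * n₁⁻¹ * (⟨l, hlL⟩ : ↥L)⁻¹, ?_, rfl⟩
      show (n₁ : H) * l * (n₁ : H)⁻¹ * l⁻¹ ∈ A
      have h3 : x * l⁻¹ = a⁻¹ * (a * l⁻¹ * x) := by
        calc x * l⁻¹ = l⁻¹ * (l * x) * l⁻¹ := by group
          _ = _ := by rw [hlx]; group
      rw [← hx, h3, hx, ← h6]
      exact mul_mem (inv_mem ha) hmemA
    · show lb * _ = _ * lb
      simp only [hlb, ← QuotientGroup.mk_inv, ← QuotientGroup.mk_mul]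
      refine congrArg _ (Subtype.ext ?_)
      show l * ((n₁ : H) * l * (n₁ : H)⁻¹) = (n₁ : H) * l * (n₁ : H)⁻¹ * l
      rw [← hx]; exact hlx
  have hl2 : lb * lb = 1 := mul_self_eq_one_of_commute (hSz L hL) T hlbT fun n hn => (key n hn).2
  have hl1 : lb ≠ 1 := fun h1 => hmove (by
    rw [hlb, QuotientGroup.eq_one_iff] at h1
    have hlc : l ∈ centralizer (L : Set H) := mem_centralizer_iff.2 fun x hx =>
      congrArg Subtype.val (mem_center_iff.1 h1 ⟨x, hx⟩)
    have h2 := mul_mem hlC hlc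
    rwa [inv_mul_cancel_right] at h2)
  let V : Subgroup (↥L ⧸ center ↥L) := (A.subgroupOf L).map (QuotientGroup.mk' _)
  have hdiff : ∀ x ∈ (T : Subgroup (↥L ⧸ center ↥L)), x * x = 1 → x ≠ 1 → x * lb⁻¹ ∈ V := by
    intro x hx hx2 hx1
    obtain ⟨n, hn, rfl⟩ := exists_conj_of_involutions (hSz L hL) T hlbT hx hl2 hx2 hl1 hx1
    obtain ⟨v, hv, hve⟩ := (key n hn).1
    exact ⟨v, mem_subgroupOf.2 hv, hve⟩
  have hub : (u : ↥L ⧸ center ↥L) ∈ V := by
    by_cases hu1 : (u : ↥L ⧸ center ↥L) = 1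
    · rw [hu1]; exact one_mem _
    have hT2 : (u : ↥L ⧸ center ↥L) * u = 1 := by
      rw [← QuotientGroup.mk_mul]; exact (QuotientGroup.eq_one_iff _).2 hu2
    have huT : (u : ↥L ⧸ center ↥L) ∈ (T : Subgroup (↥L ⧸ center ↥L)) := (hT _).2 ⟨u, hu, rfl⟩
    obtain ⟨w, hw, hw2, hw1, hwu⟩ :=
      exists_third_involution (hSz L hL) T (u : ↥L ⧸ center ↥L)
    have hcomm : Commute (u : ↥L ⧸ center ↥L) w := by
      refine commute_of_involutions (hSz L hL) T huT hw hT2 hw2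
    have hz2 : (u : ↥L ⧸ center ↥L) * w * ((u : ↥L ⧸ center ↥L) * w) = 1 := by
      calc (u : ↥L ⧸ center ↥L) * w * ((u : ↥L ⧸ center ↥L) * w)
          = (u : ↥L ⧸ center ↥L) * (w * u) * w := by group
        _ = ((u : ↥L ⧸ center ↥L) * u) * (w * w) := by rw [← hcomm.eq]; group
        _ = 1 := by rw [hT2, hw2, one_mul]
    have hz1 : (u : ↥L ⧸ center ↥L) * w ≠ 1 := fun h1 => hwu (by
      calc w = (u : ↥L ⧸ center ↥L) * u * w := by rw [hT2, one_mul]
        _ = (u : ↥L ⧸ center ↥L) * ((u : ↥L ⧸ center ↥L) * w) := by group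
        _ = u := by rw [h1, mul_one])
    have := mul_mem (hdiff _ (mul_mem huT hw) hz2 hz1) (inv_mem (hdiff w hw hw2 hw1))
    have e : (u : ↥L ⧸ center ↥L) * w * lb⁻¹ * (w * lb⁻¹)⁻¹ = u := by group
    rwa [e] at this
  obtain ⟨v, hv, hve⟩ := hub
  exact ⟨v, mem_subgroupOf.1 hv, QuotientGroup.eq.1 hve⟩

end CfsgLib.ThreePrime
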