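import Cfsg.Prelude.Def_Balance
import Cfsg.Agent.Solvable.Basic
import Cfsg.Agent.Suzuki.Borel
import Cfsg.Agent.Suzuki.Centralizers
import Cfsg.Agent.InvolutorySylow.Basic
import Cfsg.Agent.AutSuzuki.Basic
import Cfsg.Agent.PLocal.Cores

/-!
# Facts on the Suzuki groups for the classification of simple 3′-groups

Centralisers of involutions are Sylow 2-subgroups, automorphisms of 2-power order are inner,
an automorphism of odd order fixing a Sylow 2-subgroup pointwise is trivial, and the groups are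
locally balanced.
-/

set_option autoImplicit false
set_option linter.style.haveILetI false

namespace CfsgLib.ThreePrime

open Subgroup

variable {F : Type*} [Field F] [Fintype F] {m : ℕ}

/-- In the model the centraliser of an involution of the unipotent group is that group. -/
theorem centralizer_invol_model (hS : CfsgLib.Suzuki.SzField F m) {i : Cfsg.Sz F m}
    (hi : orderOf i = 2) (hiU : i ∈ CfsgLib.Suzuki.uniSub hS) :
    centralizer ({i} : Set (Cfsg.Sz F m)) = CfsgLib.Suzuki.uniSub hS := by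
  obtain ⟨a, b, rfl⟩ := hiU
  have hne : CfsgLib.Suzuki.uniEl hS a b ≠ 1 := fun h => by
    rw [h, orderOf_one] at hi; omega
  refine le_antisymm (CfsgLib.Suzuki.centralizer_uniEl_le hS hne) fun u hu => ?_
  have h2 : CfsgLib.Suzuki.uniEl hS a b * CfsgLib.Suzuki.uniEl hS a b = 1 := by
    rw [← sq, ← hi, pow_orderOf_eq_one]
  rw [CfsgLib.Suzuki.uniEl_sq, ← CfsgLib.Suzuki.uniEl_zero hS, CfsgLib.Suzuki.uniEl_eq_iff] at h2
  have ha : a = 0 := by
    rcases mul_eq_zero.1 h2.2 with h | h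
    · exact (pow_eq_zero_iff (pow_ne_zero _ two_ne_zero)).1 h
    · exact h
  subst ha
  have h := (CfsgLib.Suzuki.mem_center_iff hS
    ⟨_, CfsgLib.Suzuki.uniEl_mem hS 0 b⟩).2 (CfsgLib.Suzuki.uniCenter_mem hS b)
  exact mem_centralizer_singleton_iff.2
    (congrArg Subtype.val (Subgroup.mem_center_iff.1 h ⟨u, hu⟩))

variable {G : Type*} [Group G] [Finite G]

omit [Finite G] in
theorem conjInj (hZ : Subgroup.center G = ⊥) {a b : G}
    (h : MulAut.conj a = MulAut.conj b) : a = b := by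
  have h1 : a⁻¹ * b ∈ Subgroup.center G := Subgroup.mem_center_iff.2 fun g => by
    have h2 : a * g * a⁻¹ = b * g * b⁻¹ := DFunLike.congr_fun h g
    calc g * (a⁻¹ * b) = a⁻¹ * (a * g * a⁻¹) * b := by group
      _ = a⁻¹ * (b * g * b⁻¹) * b := by rw [h2]
      _ = a⁻¹ * b * g := by group
  rw [hZ, mem_bot, inv_mul_eq_one] at h1
  exact h1

/-- The centraliser of an involution of a Suzuki group is a Sylow 2-subgroup. -/
theorem centralizer_invol (h : Cfsg.Lie.IsoSuzuki G) {i : G} (hi : orderOf i = 2) :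
    ∃ S : Sylow 2 G, centralizer ({i} : Set G) = (S : Subgroup G) := by
  haveI : Fact (Nat.Prime 2) := ⟨Nat.prime_two⟩
  obtain ⟨F, _, _, m, hm, hF, ⟨e₀⟩⟩ := h
  have hS : CfsgLib.Suzuki.SzField F m := ⟨hm, hF⟩
  let e : G ≃* Cfsg.Sz F m := e₀.trans (CfsgLib.Suzuki.lieSzEquiv hS).symm
  have hU : IsPGroup 2 (CfsgLib.Suzuki.uniSub hS) := IsPGroup.of_card (n := 2 * (2 * m + 1)) (by
    rw [CfsgLib.Suzuki.card_uniSub, hS.card_eq, ← pow_mul, mul_comm])
  let U : Sylow 2 (Cfsg.Sz F m) := hU.toSylow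
    (by simpa [Nat.odd_iff, Nat.dvd_iff_mod_eq_zero] using CfsgLib.Suzuki.odd_index_uniSub hS)
  obtain ⟨T, hT⟩ := (IsPGroup.of_card (n := 1) (G := zpowers (e i)) (p := 2)
    (by rw [Nat.card_zpowers, MulEquiv.orderOf_eq, hi, pow_one])).exists_le_sylow
  obtain ⟨g, hg⟩ := MulAction.exists_smul_eq (Cfsg.Sz F m) U T
  have hmem : g⁻¹ * e i * g ∈ (U : Subgroup (Cfsg.Sz F m)) := by
    have h1 := hT (mem_zpowers (e i))
    rw [← hg, Sylow.coe_subgroup_smul, CfsgLib.Solvable.mem_conj_smul] at h1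
    simpa using h1
  have hi' : orderOf (g⁻¹ * e i * g) = 2 := by
    rw [show g⁻¹ * e i * g = MulAut.conj g⁻¹ (e i) by simp, MulEquiv.orderOf_eq, MulEquiv.orderOf_eq, hi]
  have hC := centralizer_invol_model hS hi' hmem
  refine ⟨(g • U).comapOfInjective e.toMonoidHom e.injective
    fun x _ => ⟨e.symm x, e.apply_symm_apply x⟩, ?_⟩
  ext x
  show x ∈ centralizer ({i} : Set G) ↔ e x ∈ ((g • U : Sylow 2 _) : Subgroup (Cfsg.Sz F m))
  rw [Sylow.coe_subgroup_smul, CfsgLib.Solvable.mem_conj_smul, mem_centralizer_singleton_iff]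
  show _ ↔ g⁻¹ * e x * g ∈ CfsgLib.Suzuki.uniSub hS
  rw [← hC, mem_centralizer_singleton_iff]
  constructor
  · intro hx
    calc g⁻¹ * e x * g * (g⁻¹ * e i * g) = g⁻¹ * e (x * i) * g := by rw [map_mul]; group
      _ = g⁻¹ * e i * g * (g⁻¹ * e x * g) := by rw [hx, map_mul]; group
  · intro hx
    refine e.injective ?_
    have h1 : g⁻¹ * (e x * e i) * g = g⁻¹ * (e i * e x) * g := by
      calc g⁻¹ * (e x * e i) * g = g⁻¹ * e x * g * (g⁻¹ * e i * g) := by group
        _ = g⁻¹ * e i * g * (g⁻¹ * e x * g) := hx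
        _ = _ := by group
    rw [map_mul, map_mul]
    exact mul_left_cancel (mul_right_cancel h1)

/-- A Sylow 2-subgroup is transitive on the other Sylow 2-subgroups. -/
theorem sylow_transitive (h : Cfsg.Lie.IsoSuzuki G) (S T T' : Sylow 2 G) (hT : T ≠ S)
    (hT' : T' ≠ S) : ∃ u ∈ (S : Subgroup G), u • T = T' := by
  haveI : Fact (Nat.Prime 2) := ⟨Nat.prime_two⟩
  obtain ⟨F, _, _, m, hm, hF, ⟨e₀⟩⟩ := h
  have hS : CfsgLib.Suzuki.SzField F m := ⟨hm, hF⟩
  obtain ⟨R, -, -, -, hreg⟩ :=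
    CfsgLib.Suzuki.sylow_normalizer_action hS ((CfsgLib.Suzuki.lieSzEquiv hS).trans e₀.symm)
  obtain ⟨g, hg⟩ := MulAction.exists_smul_eq G R S
  obtain ⟨a, ha⟩ := MulAction.exists_smul_eq G R (g⁻¹ • T)
  obtain ⟨b, hb⟩ := MulAction.exists_smul_eq G R (g⁻¹ • T')
  have key : ∀ x y : G, (QuotientGroup.mk x : G ⧸ normalizer ((R : Subgroup G) : Set G)) =
      QuotientGroup.mk y ↔ x • R = y • R := fun x y => by
    rw [QuotientGroup.eq]
    refine Sylow.smul_eq_iff_mem_normalizer.symm.trans ?_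
    rw [mul_smul, inv_smul_eq_iff]
    exact eq_comm
  have hne : ∀ {x : G} {P : Sylow 2 G}, x • R = g⁻¹ • P → P ≠ S →
      (QuotientGroup.mk x : G ⧸ normalizer ((R : Subgroup G) : Set G)) ≠ QuotientGroup.mk 1 := by
    intro x P hx hP h1
    rw [key, one_smul, hx] at h1
    exact hP (by rw [← hg, ← inv_smul_eq_iff, h1])
  obtain ⟨s, hs, -⟩ := hreg _ _ (hne ha hT) (hne hb hT')
  refine ⟨g * s * g⁻¹, ?_, ?_⟩
  · rw [← hg, Sylow.coe_subgroup_smul, CfsgLib.Solvable.mem_conj_smul]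
    simp [mul_assoc]
  · have h1 : ((s : G) * a) • R = b • R := (key _ _).1 hs
    rw [mul_smul, ha, hb] at h1
    rw [mul_smul, mul_smul, h1, smul_inv_smul]

/-- An automorphism of odd order fixing a Sylow 2-subgroup pointwise is trivial. -/
theorem aut_eq_one (h : Cfsg.Lie.IsoSuzuki G) [IsSimpleGroup G] (σ : MulAut G) {k : ℕ}
    (hk : Odd k) (hσ : σ ^ k = 1) (S : Sylow 2 G) (hfix : ∀ s ∈ (S : Subgroup G), σ s = s) :
    σ = 1 := by
  haveI : Fact (Nat.Prime 2) := ⟨Nat.prime_two⟩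
  by_contra hne
  -- every Sylow subgroup is fixed
  have hfixSyl : ∀ T : Sylow 2 G, ∀ x ∈ (T : Subgroup G), σ x ∈ (T : Subgroup G) := by
    by_cases hall : ∀ T : Sylow 2 G, T = S
    · intro T x hx
      rw [hall T] at hx ⊢
      rwa [hfix x hx]
    push Not at hall
    obtain ⟨T₀, hT₀⟩ := hall
    have hmap : ∀ T : Sylow 2 G, T ≠ S → ∃ u ∈ (S : Subgroup G),
        (T : Subgroup G).map σ.toMonoidHom = ((u • T : Sylow 2 G) : Subgroup G) := by
      intro T hT
      let T' : Sylow 2 G := T.comapOfInjective (σ⁻¹ : MulAut G).toMonoidHom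
        (σ⁻¹ : MulAut G).injective fun x _ => ⟨σ x, σ.symm_apply_apply x⟩
      have hT'eq : (T' : Subgroup G) = (T : Subgroup G).map σ.toMonoidHom := by
        show Subgroup.comap (σ⁻¹ : MulAut G).toMonoidHom (T : Subgroup G) = _
        exact (Subgroup.map_equiv_eq_comap_symm σ _).symm
      have hT'ne : T' ≠ S := by
        intro e
        refine hT (Sylow.ext (eq_of_le_of_card_ge (fun x hx => ?_) (by
          rw [Sylow.card_eq_multiplicity, Sylow.card_eq_multiplicity])))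
        have h1 : σ x ∈ (S : Subgroup G) := by
          rw [← e, hT'eq]; exact mem_map_of_mem _ hx
        have h2 := hfix _ h1
        rwa [σ.injective h2] at h1
      obtain ⟨u, hu, he⟩ := sylow_transitive h S T T' hT hT'ne
      exact ⟨u, hu, by rw [he, hT'eq]⟩
    obtain ⟨u, hu, hu₀⟩ := hmap T₀ hT₀
    have hpow : ∀ j : ℕ, (T₀ : Subgroup G).map (σ ^ j).toMonoidHom =
        ((u ^ j • T₀ : Sylow 2 G) : Subgroup G) := by
      intro j
      induction j with
      | zero =>
        rw [pow_zero, pow_zero, one_smul]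
        exact Subgroup.map_id _
      | succ j ih =>
        rw [pow_succ' σ, pow_succ u, mul_smul]
        change Subgroup.map (σ.toMonoidHom.comp (σ ^ j).toMonoidHom) _ = _
        rw [← map_map, ih, Sylow.coe_subgroup_smul, Sylow.coe_subgroup_smul]
        ext x
        rw [CfsgLib.Solvable.mem_conj_smul, ← hu₀]
        simp only [CfsgLib.Solvable.mem_conj_smul, Subgroup.mem_map]
        constructor
        · rintro ⟨y, hy, rfl⟩
          exact ⟨(u ^ j)⁻¹ * y * u ^ j, by simpa [mul_assoc] using hy, by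
            show σ _ = _
            rw [map_mul, map_mul, map_inv, hfix _ (pow_mem hu j)]
            simp [mul_assoc]⟩
        · rintro ⟨z, hz, hzx⟩
          refine ⟨u ^ j * z * (u ^ j)⁻¹, by simpa [mul_assoc] using hz, ?_⟩
          have hzx' : σ z = (u ^ j)⁻¹ * x * u ^ j := hzx
          show σ _ = _
          rw [map_mul, map_mul, map_inv, hfix _ (pow_mem hu j), hzx']
          group
    have hfix₀ : u • T₀ = T₀ := by
      have h1 : u ^ k • T₀ = T₀ := Sylow.ext (by
        rw [← hpow, hσ]; exact Subgroup.map_id _)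
      obtain ⟨i, hi⟩ := S.isPGroup' ⟨u, hu⟩
      have hi' : u ^ 2 ^ i = 1 := by simpa using congrArg Subtype.val hi
      obtain ⟨x, y, hxy⟩ : ∃ x y : ℤ, (1 : ℤ) = k * x + (2 : ℤ) ^ i * y := by
        refine ⟨Nat.gcdA k (2 ^ i), Nat.gcdB k (2 ^ i), ?_⟩
        have h2 := Nat.gcd_eq_gcd_ab k (2 ^ i)
        rw [((Nat.coprime_two_right.2 hk).pow_right i).gcd_eq_one] at h2
        push_cast at h2
        exact h2
      have h3 : u = (u ^ k) ^ x := by
        conv_lhs => rw [← zpow_one u, hxy, zpow_add, zpow_mul, zpow_natCast,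
          show (2 : ℤ) ^ i = ((2 ^ i : ℕ) : ℤ) by push_cast; ring, zpow_mul, zpow_natCast,
          hi', one_zpow, mul_one]
      have h4 : u ^ k ∈ MulAction.stabilizer G T₀ := h1
      have h5 := zpow_mem h4 x
      rw [← h3] at h5
      exact h5
    intro T x hx
    by_cases hT : T = S
    · subst hT; rwa [hfix x hx]
    obtain ⟨v, hv, rfl⟩ := sylow_transitive h S T₀ T hT₀ hT
    rw [Sylow.coe_subgroup_smul, CfsgLib.Solvable.mem_conj_smul] at hx ⊢
    have h1 : σ (v⁻¹ * x * v) ∈ (T₀ : Subgroup G).map σ.toMonoidHom := mem_map_of_mem _ hx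
    rw [hu₀, hfix₀, map_mul, map_mul, map_inv, hfix v hv] at h1
    exact h1
  -- so `σ g g⁻¹` normalises every Sylow subgroup
  have hiff : ∀ (T : Sylow 2 G) (x : G), σ x ∈ (T : Subgroup G) ↔ x ∈ (T : Subgroup G) := by
    intro T x
    refine ⟨fun hx => ?_, hfixSyl T x⟩
    have hiter : ∀ (j : ℕ) (z : G), z ∈ (T : Subgroup G) → (σ ^ j) z ∈ (T : Subgroup G) := by
      intro j
      induction j with
      | zero => simp
      | succ j ih => exact fun z hz => by rw [pow_succ']; exact hfixSyl T _ (ih z hz)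
    obtain ⟨j, hj⟩ := hk
    have h2 := hiter (2 * j) _ hx
    rwa [← MulAut.mul_apply, ← pow_succ, ← hj, hσ, MulAut.one_apply] at h2
  let K : Subgroup G := ⨅ T : Sylow 2 G, normalizer ((T : Subgroup G) : Set G)
  have hmemK : ∀ g, g ∈ K ↔ ∀ T : Sylow 2 G, g • T = T := fun g => by
    simp only [K, mem_iInf]
    exact forall_congr' fun T => Sylow.smul_eq_iff_mem_normalizer.symm
  haveI : K.Normal := ⟨fun x hx g => by
    rw [hmemK] at hx ⊢
    intro T
    rw [mul_smul, mul_smul, hx, smul_inv_smul]⟩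
  have hdiff : ∀ g, σ g * g⁻¹ ∈ K := by
    intro g
    rw [hmemK]
    intro T
    obtain ⟨P, rfl⟩ : ∃ P, T = g • P := ⟨g⁻¹ • T, (smul_inv_smul g T).symm⟩
    rw [mul_smul, inv_smul_smul]
    refine Sylow.ext (SetLike.ext fun x => ?_)
    obtain ⟨y, rfl⟩ : ∃ y, σ y = x := ⟨σ.symm x, σ.apply_symm_apply x⟩
    rw [Sylow.coe_subgroup_smul, CfsgLib.Solvable.mem_conj_smul,
      hiff (g • P) y, Sylow.coe_subgroup_smul, CfsgLib.Solvable.mem_conj_smul,
      ← map_inv, ← map_mul, ← map_mul, hiff]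
  rcases Subgroup.Normal.eq_bot_or_eq_top (inferInstance : K.Normal) with hK | hK
  · exact hne (MulEquiv.ext fun g => by
      have h1 := hdiff g
      rw [hK, mem_bot, mul_inv_eq_one] at h1
      exact h1)
  · have hnorm : (S : Subgroup G).Normal := by
      rw [← normalizer_eq_top_iff, eq_top_iff, ← hK]
      exact iInf_le _ S
    rcases hnorm.eq_bot_or_eq_top with e | e
    · obtain ⟨F, _, _, m, hm, hF, ⟨e₀⟩⟩ := h
      have hS : CfsgLib.Suzuki.SzField F m := ⟨hm, hF⟩
      have h2 : 2 ∣ Nat.card G := by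
        rw [Nat.card_congr ((e₀.trans (CfsgLib.Suzuki.lieSzEquiv hS).symm).toEquiv),
          CfsgLib.Suzuki.card_sz hS]
        exact Dvd.dvd.mul_right (Dvd.dvd.mul_right (dvd_pow hS.even_card two_ne_zero) _) _
      have h3 := S.dvd_card_of_dvd_card h2
      rw [e, card_bot] at h3
      omega
    · refine hne (MulEquiv.ext fun g => ?_)
      exact hfix g (by rw [e]; exact mem_top g)

/-- The Suzuki groups are locally balanced. -/
theorem isLocallyBalanced_suzuki (h : Cfsg.Lie.IsoSuzuki G) [IsSimpleGroup G] :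
    Cfsg.IsLocallyBalanced G := by
  haveI : Fact (Nat.Prime 2) := ⟨Nat.prime_two⟩
  intro H hH x hx
  have hx2 : (x : MulAut G) * x = 1 := by
    have h1 : x ^ 2 = 1 := hx ▸ pow_orderOf_eq_one x
    simpa [sq] using congrArg Subtype.val h1
  obtain ⟨F, _, _, m, hm, hF, ⟨e₀⟩⟩ := id h
  have hS : CfsgLib.Suzuki.SzField F m := ⟨hm, hF⟩
  have hodd : Odd (Nat.card (Cfsg.Out G)) := by
    rw [CfsgLib.AutSuzuki.card_out_congr (e₀.trans (CfsgLib.Suzuki.lieSzEquiv hS).symm),
      CfsgLib.AutSuzuki.card_out_sz hS]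
    exact ⟨m, rfl⟩
  obtain ⟨i, hi⟩ : ∃ i, MulAut.conj i = (x : MulAut G) := CfsgLib.InvolutorySylow.mem_inn_of_odd_pow hx2 hodd (by
    rw [← QuotientGroup.eq_one_iff]
    show QuotientGroup.mk' (Cfsg.Inn G) ((x : MulAut G) ^ Nat.card (Cfsg.Out G)) = 1
    rw [map_pow]
    exact pow_card_eq_one')
  have hZ : Subgroup.center G = ⊥ := by
    rcases (inferInstance : (Subgroup.center G).Normal).eq_bot_or_eq_top with e | e
    · exact e
    · exfalso
      obtain ⟨S⟩ := Sylow.nonempty (p := 2) (G := G)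
      have := CfsgLib.Suzuki.isSimpleGroup_sz hS
      have hcomm := CfsgLib.Suzuki.commutator_sz_eq_top hS
      have : Nontrivial (Cfsg.Sz F m) := CfsgLib.Suzuki.sz_nontrivial hS
      have hab : ∀ a b : Cfsg.Sz F m, a * b = b * a := fun a b => by
        let e' := e₀.trans (CfsgLib.Suzuki.lieSzEquiv hS).symm
        have h1 : e'.symm a * e'.symm b = e'.symm b * e'.symm a :=
          (Subgroup.mem_center_iff.1 (e ▸ mem_top (e'.symm b)) (e'.symm a))
        exact e'.symm.injective (by rw [map_mul, map_mul]; exact h1)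
      have : commutator (Cfsg.Sz F m) = ⊥ := by
        rw [commutator_def, Subgroup.commutator_eq_bot_iff_le_centralizer]
        exact fun a _ => mem_centralizer_iff.2 fun b _ => hab b a
      rw [hcomm] at this
      exact top_ne_bot this
  have hi2 : orderOf i = 2 := by
    refine orderOf_eq_prime ?_ ?_
    · have h1 : MulAut.conj (i * i) = 1 := by rw [map_mul, hi, hx2]
      have h2 : i * i ∈ Subgroup.center G := Subgroup.mem_center_iff.2 fun g => by
        have := DFunLike.congr_fun h1 g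
        simp only [MulAut.conj_apply, MulAut.one_apply, mul_inv_eq_iff_eq_mul] at this
        exact this.symm
      rwa [hZ, mem_bot, ← sq] at h2
    · rintro rfl
      rw [map_one] at hi
      have : x = 1 := Subtype.ext hi.symm
      rw [this, orderOf_one] at hx
      omega
  obtain ⟨S, hSC⟩ := centralizer_invol h hi2
  rw [eq_bot_iff]
  obtain ⟨C, hCdef⟩ : ∃ C, C = centralizer ({x} : Set ↥H) := ⟨_, rfl⟩
  rintro y hy
  rw [Cfsg.centralizerPPrimeCore, ← hCdef, mem_map] at hy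
  obtain ⟨c, hc, rfl⟩ := hy
  -- the inner automorphisms in the centraliser form a normal 2-subgroup
  haveI hQn : (Cfsg.pPrimeCore 2 ↥C).Normal := by
    haveI := CfsgLib.PLocal.pPrimeCoreCharacteristic 2 ↥C
    exact Subgroup.normal_of_characteristic _
  have hodd2 : ∀ z ∈ Cfsg.pPrimeCore 2 ↥C, ¬ 2 ∣ orderOf z := fun z hz h2 => by
    have h3 := h2.trans (Subgroup.orderOf_dvd_natCard _ hz)
    have h4 := Nat.Coprime.eq_one_of_dvd
      (CfsgLib.PLocal.coprime_card_pPrimeCore 2 ↥C).symm h3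
    omega
  have hodd' := hodd2 c hc
  rw [mem_bot]
  refine Subtype.ext ?_
  change ((c : ↥H) : MulAut G) = 1
  obtain ⟨k, hk⟩ : ∃ k, k = orderOf c := ⟨_, rfl⟩
  refine aut_eq_one h _ (k := k) (Nat.odd_iff.2 (by omega)) (by
    rw [hk]; exact congrArg (fun z : ↥C => ((z : ↥H) : MulAut G)) (pow_orderOf_eq_one c)) S
    fun s hs => ?_
  have hsH : MulAut.conj s ∈ H := hH ⟨s, rfl⟩
  have hsx : (⟨MulAut.conj s, hsH⟩ : ↥H) ∈ C := hCdef ▸ mem_centralizer_singleton_iff.2 (Subtype.ext (by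
    show MulAut.conj s * (x : MulAut G) = (x : MulAut G) * MulAut.conj s
    rw [← hi, ← map_mul, ← map_mul, mem_centralizer_singleton_iff.1 (hSC ▸ hs)]))
  obtain ⟨w, hw⟩ : ∃ w : ↥C, w = ⟨⟨MulAut.conj s, hsH⟩, hsx⟩ := ⟨_, rfl⟩
  -- the commutator is inner, a 2-element and of odd order
  set z := c * w * c⁻¹ * w⁻¹ with hz
  have hzQ : z ∈ Cfsg.pPrimeCore 2 ↥C := by
    rw [hz, mul_assoc, mul_assoc]
    refine mul_mem hc ?_
    rw [← mul_assoc]
    exact hQn.conj_mem _ (inv_mem hc) w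
  obtain ⟨t, ht⟩ : ∃ t, t = ((c : ↥H) : MulAut G) s * s⁻¹ := ⟨_, rfl⟩
  have hzt : ((z : ↥H) : MulAut G) = MulAut.conj t := by
    subst hw
    rw [hz, ht, map_mul, map_inv]
    show ((c : ↥H) : MulAut G) * MulAut.conj s * ((c : ↥H) : MulAut G)⁻¹ * (MulAut.conj s)⁻¹ = _
    congr 1
    exact MulEquiv.ext fun g => by simp [MulAut.mul_apply]
  have htS : t ∈ (S : Subgroup G) := by
    rw [← hSC, mem_centralizer_singleton_iff]
    have h1 : (z : ↥H) * x = x * z :=
      mem_centralizer_singleton_iff.1 (hCdef ▸ z.2)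
    have h2 : MulAut.conj (t * i) = MulAut.conj (i * t) := by
      rw [map_mul, map_mul, ← hzt, hi]
      exact congrArg Subtype.val h1
    exact conjInj hZ h2
  obtain ⟨j, hj⟩ := S.isPGroup' ⟨t, htS⟩
  have hz1 : z = 1 := by
    have hpow : z ^ 2 ^ j = 1 := Subtype.ext (Subtype.ext (by
      show ((z : ↥H) : MulAut G) ^ 2 ^ j = 1
      rw [hzt, ← map_pow, show t ^ 2 ^ j = 1 by simpa using congrArg Subtype.val hj, map_one]))
    by_contra hne
    obtain ⟨l, -, hl⟩ := (Nat.dvd_prime_pow Nat.prime_two).1 (orderOf_dvd_of_pow_eq_one hpow)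
    have h2 : ¬ 2 ∣ orderOf z := fun h2 =>
      hodd2 z hzQ h2
    rcases Nat.eq_zero_or_pos l with rfl | hl0
    · exact hne (orderOf_eq_one_iff.1 (by simpa using hl))
    · exact h2 (hl ▸ dvd_pow_self 2 hl0.ne')
  have h3 : MulAut.conj t = 1 := by rw [← hzt, hz1]; rfl
  have h4 : t = 1 := conjInj hZ (by rw [h3, map_one])
  exact mul_inv_eq_one.1 (ht ▸ h4)

end CfsgLib.ThreePrime
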